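import Cfsg.Agent.Solv.KMSMain
import Cfsg.Agent.Solv.Frattini
import Cfsg.Agent.Solv.MinNormal
import Cfsg.Agent.Gold.Defs

/-! Nilpotent operator groups without fixed points: conjugacy of nilpotent supplements. -/

set_option autoImplicit false
set_option linter.unusedSectionVars false

namespace Cfsg.Lib.NF

open Subgroup Cfsg.Lib.Trans Cfsg.Lib.Local Cfsg.Lib.Solv Cfsg.Lib.Solv.KMS Cfsg.Lib.Gold
open QuotientGroup
open scoped commutatorElement

universe u

variable {X : Type u} [Group X]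

/-- `A` is nilpotent and acts on `G` without non-trivial fixed points. -/
structure Fp (G A : Subgroup X) : Prop where
  nrm : A ≤ Ns G
  nil : Group.IsNilpotent A
  fpf : G ⊓ Cs A = ⊥

/-- All nilpotent supplements to `G` in `G A` are conjugate to `A`. -/
def Cj (G A : Subgroup X) : Prop :=
  ∀ K : Subgroup X, Group.IsNilpotent K → G ⊔ K = G ⊔ A → ∃ g ∈ G, cj g A = K

theorem Cj_eq_1' : type_of% @Cj.eq_1 := @Cj.eq_1

variable {G A H K L N : Subgroup X} {p : ℕ}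

theorem cj_Ns (g : X) (T : Subgroup X) : cj g (Ns T) = Ns (cj g T) := cj_normalizer g T

theorem cj_Cs (g : X) (T : Subgroup X) : cj g (Cs T) = Cs (cj g T) := cj_centralizer g T

theorem Fp.eq_one (h : Fp G A) {x : X} (hx : x ∈ G) (hc : x ∈ Cs A) : x = 1 :=
  mem_bot.1 (h.fpf.le ⟨hx, hc⟩)

theorem Fp.sub (h : Fp G A) (le : H ≤ G) (n : A ≤ Ns H) : Fp H A :=
  ⟨n, h.nil, le_bot_iff.1 (h.fpf ▸ inf_le_inf_right _ le)⟩

theorem Fp.disj [Finite X] (h : Fp G A) : A ⊓ G = ⊥ := by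
  by_contra hn
  have := h.nil
  have hN : (G.subgroupOf A).Normal := normal_subgroupOf_of_le_normalizer' h.nrm
  have h0 : G.subgroupOf A ≠ ⊥ := fun e => hn (by
    rw [eq_bot_iff]
    exact fun x hx => mem_bot.2 (congrArg Subtype.val (mem_bot.1 (e.le
      (show (⟨x, hx.1⟩ : A) ∈ G.subgroupOf A from hx.2)))))
  obtain ⟨⟨x, hx⟩, h1⟩ := ne_bot_iff_exists_ne_one.1 (PG.inf_center_ne_bot _ h0)
  exact h1 (Subtype.ext (Subtype.ext (h.eq_one hx.1 fun a ha =>
    congrArg Subtype.val (mem_center_iff.1 hx.2 ⟨a, ha⟩))))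

theorem Fp.hyp [Finite X] (h : Fp G A) : Hyp G A ⊥ :=
  ⟨h.nrm, bot_le, bot_le, h.nil, fun _ hx h1 => absurd (mem_bot.1 hx) h1,
    by rw [sup_bot_eq, h.disj], h.fpf⟩

theorem Fp.of_hyp (h : Hyp G A H) : Fp G A := ⟨h.hF, h.nil, h.fpf⟩

theorem Fp.cj (h : Fp G A) (g : X) : Fp (cj g G) (cj g A) :=
  ⟨by rw [← cj_Ns]; exact cj_mono g h.nrm,
    Group.nilpotent_of_mulEquiv (_h := h.nil) (cjEquiv g A),
    by rw [← cj_Cs, ← cj_inf, h.fpf, cj_bot]⟩

theorem Fp.subgroupOf [Finite X] (h : Fp G A) {E : Subgroup X} (hA : A ≤ E) :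
    Fp (G.subgroupOf E) (A.subgroupOf E) := Fp.of_hyp (h.hyp.subgroupOf hA bot_le)

/-- Elements of `G` normalising `A` are trivial. -/
theorem Fp.eq_one_of_Ns [Finite X] (h : Fp G A) {x : X} (hx : x ∈ G) (hn : x ∈ Ns A) : x = 1 :=
  h.eq_one hx fun a ha => by
    have h1 : a * x * a⁻¹ * x⁻¹ ∈ A ⊓ G := mem_inf.2 ⟨by
      simpa only [mul_assoc] using mul_mem ha (mem_normalizer_conj hn (inv_mem ha)),
      mul_mem (mem_normalizer_conj (h.nrm ha) hx) (inv_mem hx)⟩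
    rw [h.disj, mem_bot, mul_inv_eq_one, mul_inv_eq_iff_eq_mul] at h1
    exact h1

theorem Fp.mem_of_Ns [Finite X] (h : Fp G A) {B : Subgroup X} (hB : Fp G B) (n : A ≤ Ns B) {x : X}
    (hx : x ∈ G ⊔ A) (hn : x ∈ Ns B) : x ∈ A := by
  obtain ⟨g, hg, a, ha, rfl⟩ := exists_mul_of_mem_sup_of_le_normalizer h.nrm hx
  rw [hB.eq_one_of_Ns hg (by simpa using mul_mem hn (inv_mem (n ha))), one_mul]
  exact ha

variable [Finite X]

theorem map_pp {Y : Type*} [Group Y] [Finite Y] [Fact p.Prime] (hA : Group.IsNilpotent A)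
    (f : X →* Y) : (pp p A).map f = pp p (A.map f) := by
  have h1 := isNilpotent_map f A hA
  have h2 : (pp p A).map f ≤ pp p (A.map f) := le_map_pPrimeCore_of_isNilpotent h1
    ((coprime_card_map_pPrimeCore p A).coprime_dvd_left (Subgroup.card_map_dvd _ _))
    (map_mono (map_subtype_le _))
  refine le_antisymm h2 fun y hy => ?_
  obtain ⟨a, ha, rfl⟩ := map_subtype_le _ hy
  rw [← map_pCore_sup_map_pPrimeCore_of_isNilpotent hA p] at ha
  obtain ⟨b, hb, c, hc, rfl⟩ := exists_mul_of_mem_sup_of_le_normalizer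
    ((map_subtype_le _).trans (le_normalizer.trans (normalizer_le_normalizer_map_pCore p A))) ha
  have h3 : f b ∈ (((pCore p A).map A.subtype).map f ⊓ pp p (A.map f) : Subgroup Y) :=
    ⟨mem_map_of_mem f hb, by simpa using mul_mem hy (inv_mem (h2 (mem_map_of_mem f hc)))⟩
  rw [inf_eq_bot_of_isPGroup_of_coprime ((isPGroup_map_pCore p A).map f)
    (coprime_card_map_pPrimeCore p _), mem_bot] at h3
  rw [map_mul, h3, one_mul]
  exact mem_map_of_mem f hc

theorem Fp.toPP [Fact p.Prime] (h : Fp N A) (hN : IsPGroup p N) : Fp N (pp p A) :=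
  Fp.of_hyp (h.hyp.toPP hN)

theorem eq_of_le_of_sup (h : A ⊓ G = ⊥) (n : K ≤ Ns G) (le : K ≤ A) (e : A ≤ G ⊔ K) : K = A := by
  refine le_antisymm le fun a ha => ?_
  obtain ⟨g, hg, k, hk, rfl⟩ := exists_mul_of_mem_sup_of_le_normalizer n (e ha)
  have : g ∈ A ⊓ G := ⟨by simpa using mul_mem ha (inv_mem (le hk)), hg⟩
  rw [h, mem_bot] at this
  rwa [this, one_mul]

theorem cj_of_pgroup [Fact p.Prime] [N.Normal] (h : Fp N A) (hN : IsPGroup p N) : Cj N A := by
  intro K hK e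
  have e1 : N ⊔ pp p K = N ⊔ pp p A := by
    have h1 : K.map (mk' N) = A.map (mk' N) := by
      rw [← comap_injective (mk'_surjective N) |>.eq_iff, comap_map_mk', comap_map_mk', e]
    rw [← comap_map_mk', ← comap_map_mk', map_pp hK, map_pp h.nil, h1]
  have := hN.isNilpotent
  obtain ⟨n, hn, h2⟩ := exists_conj_le_of_sup_eq N (pp p A) (pp p K) le_normalizer_of_normal
    (coprime_pp hN A).symm (Or.inr inferInstance) e1
  rw [conj_smul_eq_cj] at h2
  have h3 : cj n (pp p A) = pp p K := eq_of_le_of_sup (G := N)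
    (by rw [inf_comm]; exact inf_eq_bot_of_isPGroup_of_coprime hN (coprime_card_map_pPrimeCore p K))
    le_normalizer_of_normal h2 (by
      have := cj_mono n e1.ge
      rw [cj_sup, cj_eq_of_normal, cj_eq_of_mem (mem_sup_left hn), e1] at this
      calc pp p K ≤ N ⊔ pp p A := e1 ▸ le_sup_right
        _ = cj n (N ⊔ pp p A) := (cj_eq_of_mem (mem_sup_left hn)).symm
        _ = _ := by rw [cj_sup, cj_eq_of_normal])
  have h4 := h.cj n
  have h5 := (h.toPP hN).cj n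
  rw [cj_eq_of_normal] at h4 h5
  have e2 : N ⊔ cj n A = N ⊔ A := by
    conv_rhs => rw [← cj_eq_of_mem (mem_sup_left hn : n ∈ N ⊔ A), cj_sup, cj_eq_of_normal]
  refine ⟨n, hn, (eq_of_le_of_sup h4.disj le_normalizer_of_normal (fun k hk => h4.mem_of_Ns h5 ?_
    (by rw [e2, ← e]; exact mem_sup_right hk) ?_) (by rw [e, ← e2]; exact le_sup_right)).symm⟩
  · rw [← cj_Ns]
    exact cj_mono n (le_normalizer.trans (normalizer_le_normalizer_map_pPrimeCore p A))
  · rw [h3]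
    exact normalizer_le_normalizer_map_pPrimeCore p K (le_normalizer hk)

/-- Passing to a quotient by a normal subgroup with the conjugacy property. -/
theorem Fp.map_of_cj (h : Fp G A) [N.Normal] (le : N ≤ G) (c : Cj N A) :
    Fp (G.map (mk' N)) (A.map (mk' N)) := by
  refine ⟨(map_mono h.nrm).trans (le_normalizer_map _), isNilpotent_map _ _ h.nil, ?_⟩
  rw [eq_bot_iff]
  rintro _ ⟨⟨g, hg, rfl⟩, hc⟩
  obtain ⟨n, hn, e⟩ := c (Trans.cj g A) (Group.nilpotent_of_mulEquiv (_h := h.nil) (cjEquiv g A))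
    (by rw [← comap_map_mk', ← comap_map_mk', map_cj, cj_eq_of_mem_centralizer hc])
  have h1 : n⁻¹ * g = 1 := h.eq_one_of_Ns (mul_mem (inv_mem (le hn)) hg)
    (cj_eq_self_iff.1 (by rw [cj_mul, ← e, cj_inv_cj]))
  rw [mem_bot, mk'_apply, eq_one_iff, ← inv_mul_eq_one.1 h1]
  exact hn

theorem Cj.of_subgroupOf {E : Subgroup X} (hE : G ⊔ A ≤ E)
    (c : Cj (G.subgroupOf E) (A.subgroupOf E)) : Cj G A := by
  intro K hK e
  have hK' : K ≤ E := le_sup_right.trans (e.le.trans hE)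
  obtain ⟨g, hg, h1⟩ := c (K.subgroupOf E)
    (Group.nilpotent_of_mulEquiv (_h := hK) (subgroupOfEquivOfLe hK').symm) (by
      rw [← subgroupOf_sup (le_sup_left.trans hE) hK',
        ← subgroupOf_sup (le_sup_left.trans hE) (le_sup_right.trans hE), e])
  refine ⟨g, hg, ?_⟩
  rw [← subgroupOf_cj, subgroupOf_inj, inf_eq_left.2 hK',
    inf_eq_left.2 (cj_le_of_mem_of_le g.2 (le_sup_right.trans hE))] at h1
  exact h1

theorem isSolvable_subgroupOf (hs : Group.IsSolvable G) (E : Subgroup X) :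
    Group.IsSolvable (G.subgroupOf E) :=
  Group.isSolvable_of_isSolvable_injective (f := E.subtype.subgroupComap G)
    fun _ _ e => Subtype.ext (Subtype.ext (congrArg (Subtype.val : G → X) e))

theorem cj_of_solv_aux (X : Type u) [Group X] [Finite X] :
    ∀ G A : Subgroup X, Fp G A → Group.IsSolvable G → Cj G A := by
  refine card_induction (P := fun X _ _ => ∀ G A : Subgroup X, Fp G A → Group.IsSolvable G → Cj G A)
    (fun X _ _ ih G A h hs => ?_) X
  by_cases ht : G ⊔ A = ⊤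
  swap
  · exact Cj.of_subgroupOf le_rfl (ih _ (card_lt_of_ne_top ht) _ _ (h.subgroupOf le_sup_right)
      (isSolvable_subgroupOf hs _))
  have : G.Normal := normalizer_eq_top_iff.1 (eq_top_iff.2 (ht.ge.trans (sup_le le_normalizer h.nrm)))
  by_cases h0 : G = ⊥
  · subst h0
    exact fun K _ e => ⟨1, one_mem _, by rw [cj_one]; simpa using e.symm⟩
  obtain ⟨p, N, hp, hN, le, -, -, pN⟩ := exists_isMinNormal_elementary_le G h0
  have := Fact.mk hp
  have := hN.normal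
  have c1 := cj_of_pgroup (h.sub le le_normalizer_of_normal) pN
  have c2 := ih _ (card_quotient_lt hN.ne_bot) _ _ (h.map_of_cj le c1)
    (Group.isSolvable_of_surjective ((mk' N).subgroupMap_surjective G))
  intro K hK e
  obtain ⟨_, ⟨g, hg, rfl⟩, h1⟩ := c2 (K.map (mk' N)) (isNilpotent_map _ _ hK)
    (by rw [← Subgroup.map_sup, ← Subgroup.map_sup, e])
  obtain ⟨n, hn, h2⟩ := c1 (Trans.cj g⁻¹ K) (Group.nilpotent_of_mulEquiv (_h := hK) (cjEquiv _ K))
    (by rw [← comap_map_mk', ← comap_map_mk', map_cj, ← h1, map_inv, cj_inv_cj])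
  exact ⟨g * n, mul_mem hg (le hn), by rw [cj_mul, h2, cj_cj_inv]⟩

theorem Fp.cj_of_solv (h : Fp G A) (hs : Group.IsSolvable G) : Cj G A := cj_of_solv_aux X G A h hs

/-- A supplement contains a nilpotent supplement. -/
theorem exists_nil_suppl (n : A ≤ Ns G) (hA : Group.IsNilpotent A) (le : L ≤ G ⊔ A)
    (e : A ≤ G ⊔ L) : ∃ K ≤ L, Group.IsNilpotent K ∧ G ⊔ K = G ⊔ A := by
  set E := G ⊔ A with hE
  have hN : (G.subgroupOf E).Normal :=
    normal_subgroupOf_of_le_normalizer' (sup_le le_normalizer n)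
  obtain ⟨K, hK, h1, h2⟩ := exists_minimal_supplement (G.subgroupOf E) (L.subgroupOf E) (by
    rw [← subgroupOf_sup le le_sup_left, subgroupOf_eq_top, sup_comm L]
    exact sup_le le_sup_left e)
  have h3 := subgroupOf_le_frattini_of_minimal_supplement h1 h2
  have h4 : Group.IsNilpotent (E ⧸ G.subgroupOf E) := by
    refine Group.nilpotent_of_surjective (G := A)
      ((mk' _).comp (inclusion (le_sup_right : A ≤ E))) fun x => ?_
    obtain ⟨⟨x, hx⟩, rfl⟩ := mk'_surjective _ x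
    obtain ⟨g, hg, a, ha, rfl⟩ := exists_mul_of_mem_sup_of_le_normalizer n hx
    exact ⟨⟨a, ha⟩, (QuotientGroup.eq_iff_div_mem.2 (by
      simpa [mem_subgroupOf, div_eq_mul_inv] using hg)).symm⟩
  have h5 : Group.IsNilpotent K := isNilpotent_of_quotient_of_le_frattini _ h3
    (Group.nilpotent_of_mulEquiv (_h := inferInstance) (G := ((mk' (G.subgroupOf E)).comp
      K.subtype).range) ((quotientKerEquivRange _).symm.trans (quotientMulEquivOfEq (by
        rw [← MonoidHom.comap_ker, ker_mk']; rfl))))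
  refine ⟨K.map E.subtype, map_le_iff_le_comap.2 hK, isNilpotent_map _ _ h5, ?_⟩
  have := congrArg (Subgroup.map E.subtype) h1
  rwa [Subgroup.map_sup, subgroupOf_map_subtype, inf_eq_left.2 (le_sup_left : G ≤ E),
    ← MonoidHom.range_eq_map, range_subtype, sup_comm] at this

theorem Cj.exists_le (c : Cj G A) (h : Fp G A) (e : ∀ a ∈ A, ∃ g ∈ G, g * a ∈ L) :
    ∃ g ∈ G, cj g A ≤ L := by
  obtain ⟨K, hK, h1, h2⟩ := exists_nil_suppl (L := L ⊓ (G ⊔ A)) h.nrm h.nil inf_le_right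
    fun a ha => by
      obtain ⟨g, hg, h1⟩ := e a ha
      simpa using mul_mem (inv_mem (mem_sup_left hg : g ∈ G ⊔ L ⊓ (G ⊔ A)))
        (mem_sup_right ⟨h1, mul_mem (mem_sup_left hg) (mem_sup_right ha)⟩)
  obtain ⟨g, hg, rfl⟩ := c K h1 h2
  exact ⟨g, hg, hK.trans inf_le_left⟩

theorem Cj.exists_sylow [Fact p.Prime] (c : Cj G A) (h : Fp G A) :
    ∃ S, IsSylowIn p S G ∧ A ≤ Ns S := by
  obtain ⟨S, hS⟩ := exists_isSylowIn (p := p) G
  obtain ⟨g, hg, h1⟩ := c.exists_le h (L := Ns S) fun a ha => by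
    obtain ⟨k, hk, n, hn, rfl⟩ := hS.frattini (h.nrm ha)
    exact ⟨k⁻¹, inv_mem hk, by simpa using hn⟩
  exact ⟨Trans.cj g⁻¹ S, hS.cj_of_mem (inv_mem hg), by
    rw [← cj_Ns]; exact cj_le_iff_le_cj_inv.1 h1⟩

theorem Cj.cls (c : Cj G A) (h : Fp G A) {x : X}
    (hx : ∀ a ∈ A, ∃ g ∈ G, a * x * a⁻¹ = g * x * g⁻¹) : ∃ g ∈ G, g * x * g⁻¹ ∈ Cs A := by
  obtain ⟨g, hg, h1⟩ := c.exists_le h (L := C1 x) fun a ha => by
    obtain ⟨g, hg, e⟩ := hx a ha
    refine ⟨g⁻¹, inv_mem hg, mem_centralizer_singleton_iff.2 ?_⟩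
    calc g⁻¹ * a * x = g⁻¹ * (a * x * a⁻¹) * a := by group
      _ = _ := by rw [e]; group
  refine ⟨g⁻¹, inv_mem hg, fun a ha => ?_⟩
  have := mem_centralizer_singleton_iff.1 (cj_le_iff.1 h1 a ha)
  calc a * (g⁻¹ * x * g⁻¹⁻¹) = g⁻¹ * (g * a * g⁻¹ * x) * g := by group
    _ = _ := by rw [this]; group

theorem Fp.sylow_unique [Fact p.Prime] (h : Fp G A) {S S' : Subgroup X} (hS : IsSylowIn p S G)
    (hS' : IsSylowIn p S' G) (n : A ≤ Ns S) (n' : A ≤ Ns S')
    (hs : Group.IsSolvable (G ⊓ Ns S : Subgroup X)) : S = S' := by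
  obtain ⟨g, hg, rfl⟩ := hS.exists_cj_eq hS'
  have h1 : Fp (G ⊓ Ns (Trans.cj g S')) A := h.sub inf_le_left
    ((le_inf h.nrm (n.trans le_normalizer)).trans inf_normalizer_le_normalizer_inf)
  have h2 : Trans.cj g A ≤ Ns (Trans.cj g S') := by
    rw [← cj_Ns]; exact cj_mono g n'
  have key : ∀ a ∈ A, g * a * g⁻¹ * a⁻¹ ∈ G ⊓ Ns (Trans.cj g S') := fun a ha => mem_inf.2 ⟨by
    simpa only [mul_assoc] using mul_mem hg (mem_normalizer_conj (h.nrm ha) (inv_mem hg)),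
    mul_mem (cj_le_iff.1 h2 a ha) (inv_mem (n ha))⟩
  obtain ⟨k, hk, e⟩ := h1.cj_of_solv hs (Trans.cj g A)
    (Group.nilpotent_of_mulEquiv (_h := h.nil) (cjEquiv g A))
    (le_antisymm (sup_le le_sup_left (cj_le_iff.2 fun a ha => by
      simpa using mul_mem (mem_sup_left (key a ha)) (mem_sup_right ha : a ∈ _ ⊔ A)))
    (sup_le le_sup_left fun a ha => by
      simpa [mul_assoc] using mul_mem (inv_mem (mem_sup_left (key a ha)))
        (mem_sup_right (conj_mem_cj.2 ha) : g * a * g⁻¹ ∈ _ ⊔ Trans.cj g A)))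
  have h3 : k⁻¹ * g = 1 := h.eq_one_of_Ns (mul_mem (inv_mem hk.1) hg)
    (cj_eq_self_iff.1 (by rw [cj_mul, ← e, cj_inv_cj]))
  have h4 := cj_eq_of_mem_normalizer (inv_mem hk.2)
  rw [cj_cj, h3, cj_one] at h4
  exact h4.symm

/-- Invariant `p`-subgroups lie in invariant Sylow subgroups when the `p`-local invariant
subgroups are solvable. -/
theorem Fp.exists_sylow_ge [Fact p.Prime] (h : Fp G A) {Y : Subgroup X} (le : Y ≤ G)
    (pY : IsPGroup p Y) (n : A ≤ Ns Y)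
    (hs : ∀ U ≤ G, IsPGroup p U → Y ≤ U → A ≤ Ns U → Group.IsSolvable (G ⊓ Ns U : Subgroup X)) :
    ∃ S, IsSylowIn p S G ∧ Y ≤ S ∧ A ≤ Ns S := by
  obtain ⟨U, ⟨h1, h2, h3, h4⟩, hm⟩ := Set.exists_max_image
    {U : Subgroup X | U ≤ G ∧ IsPGroup p U ∧ Y ≤ U ∧ A ≤ Ns U} (fun U => Nat.card U)
    (Set.toFinite _) ⟨Y, le, pY, le_rfl, n⟩
  have h5 : Fp (G ⊓ Ns U) A := h.sub inf_le_left
    ((le_inf h.nrm (h4.trans le_normalizer)).trans inf_normalizer_le_normalizer_inf)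
  obtain ⟨S, hS, h6⟩ := (h5.cj_of_solv (hs U h1 h2 h3 h4)).exists_sylow (p := p) h5
  have h7 : U ≤ S := hS.le_of_normal h2 (le_inf h1 le_normalizer) inf_le_right
  have h8 : U = S := eq_of_le_of_card_ge h7
    (hm S ⟨hS.le.trans inf_le_left, hS.isPGroup, h3.trans h7, h6⟩)
  subst h8
  refine ⟨U, isSylowIn_of_maximal h1 h2 fun Q hQ h9 h10 => ?_, h3, h4⟩
  by_contra hn
  exact (lt_inf_normalizer hQ (lt_of_le_not_ge h9 hn)).ne' (hS.eq_of_le (hQ.to_le inf_le_left)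
    (le_inf h9 le_normalizer) (inf_le_inf_right _ h10))

end Cfsg.Lib.NF
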