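import Cfsg.Agent.NF.Basic
import Cfsg.Agent.Trans.Thompson
import Cfsg.Agent.FPF.Basic

/-! Nilpotent operator groups without fixed points: the minimal counterexample. -/

set_option autoImplicit false
set_option linter.unusedSectionVars false

namespace Cfsg.Lib.NF

open Subgroup Cfsg.Lib.Trans Cfsg.Lib.Local Cfsg.Lib.Solv Cfsg.Lib.Solv.KMS Cfsg.Lib.Gold
open QuotientGroup
open scoped commutatorElement

universe u

variable {X : Type u} [Group X]

/-- A minimal non-solvable group with a nilpotent fixed-point-free operator group. -/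
structure Min (G A : Subgroup X) : Prop where
  fp : Fp G A
  top : G ⊔ A = ⊤
  ns : ¬ Group.IsSolvable G
  ih : ∀ H B : Subgroup X, Fp H B → H ⊔ B ≠ ⊤ → Group.IsSolvable H
  mn : ∀ N : Subgroup X, N.Normal → N ≠ ⊥ → G ≤ N

variable [Finite X] {G A H K L N : Subgroup X} {p : ℕ}

theorem Min.normal (h : Min G A) : G.Normal :=
  normalizer_eq_top_iff.1 (eq_top_iff.2 (h.top.ge.trans (sup_le le_normalizer h.fp.nrm)))

theorem Min.sup_ne (h : Min G A) {B : Subgroup X} (lt : H < G) (le : B ≤ A) (n : B ≤ Ns H) :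
    H ⊔ B ≠ ⊤ := fun e => lt.not_ge fun g hg => by
  obtain ⟨x, hx, b, hb, rfl⟩ := exists_mul_of_mem_sup_of_le_normalizer n (e ▸ mem_top g)
  have : b ∈ A ⊓ G := ⟨le hb, by simpa using mul_mem (inv_mem (lt.le hx)) hg⟩
  rw [h.fp.disj, mem_bot] at this
  rwa [this, mul_one]

theorem Min.solv (h : Min G A) (lt : H < G) (n : A ≤ Ns H) : Group.IsSolvable H :=
  h.ih H A (h.fp.sub lt.le n) (h.sup_ne lt le_rfl n)

theorem Min.Ns_ne [Fact p.Prime] (h : Min G A) {U : Subgroup X} (pU : IsPGroup p U) (ne : U ≠ ⊥) :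
    Ns U ≠ ⊤ := fun e => by
  have := (pU.to_le (h.mn U (normalizer_eq_top_iff.1 e) ne)).isNilpotent
  exact h.ns inferInstance

theorem Min.inf_lt (_h : Min G A) (ne : L ≠ ⊤) (e : G ⊔ L = ⊤) : G ⊓ L < G :=
  lt_of_le_of_ne inf_le_left fun e1 => ne (by rwa [sup_eq_right.2 (inf_eq_left.1 e1)] at e)

theorem Min.solv_Ns [Fact p.Prime] (h : Min G A) {U : Subgroup X} (pU : IsPGroup p U) (ne : U ≠ ⊥)
    (n : A ≤ Ns U) : Group.IsSolvable (G ⊓ Ns U : Subgroup X) :=
  h.solv (h.inf_lt (h.Ns_ne pU ne) (eq_top_iff.2 (h.top.ge.trans (sup_le_sup_left n _))))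
    ((le_inf h.fp.nrm (n.trans le_normalizer)).trans inf_normalizer_le_normalizer_inf)

theorem Min.sup_inf (h : Min G A) (le : K ≤ L) (e : G ⊔ K = ⊤) : G ⊓ L ⊔ K = L := by
  have := h.normal
  refine le_antisymm (sup_le inf_le_right le) fun x hx => ?_
  obtain ⟨g, hg, k, hk, rfl⟩ := exists_mul_of_mem_sup_of_le_normalizer
    (le_normalizer_of_normal : K ≤ Ns G) (e ▸ mem_top x)
  exact mul_mem (mem_sup_left ⟨hg, by simpa using mul_mem hx (inv_mem (le hk))⟩) (mem_sup_right hk)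

/-- Inside a proper overgroup of a conjugate of `A` all nilpotent supplements are conjugate. -/
theorem Min.cj_of_le (h : Min G A) (ne : L ≠ ⊤) {g : X} (hg : g ∈ G) (le : cj g A ≤ L)
    (hK : Group.IsNilpotent K) (le' : K ≤ L) (e : G ⊔ K = ⊤) : ∃ g ∈ G, cj g A = K := by
  have := h.normal
  have e1 : G ⊔ cj g A = ⊤ := by
    have := congrArg (cj g) h.top
    rwa [cj_sup, cj_top, cj_eq_of_normal] at this
  have h1 := h.fp.cj g
  rw [cj_eq_of_normal] at h1
  have h2 : Fp (G ⊓ L) (cj g A) := h1.sub inf_le_left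
    ((le_inf h1.nrm (le.trans le_normalizer)).trans inf_normalizer_le_normalizer_inf)
  obtain ⟨k, hk, h3⟩ := h2.cj_of_solv (h.ih _ _ h2 (by rwa [h.sup_inf le e1])) K hK
    (by rw [h.sup_inf le e1, h.sup_inf le' e])
  exact ⟨k * g, mul_mem hk.1 hg, by rw [cj_mul, h3]⟩

/-- A nilpotent supplement normalising a Sylow subgroup of the normaliser of `U`. -/
theorem Min.step [Fact p.Prime] (h : Min G A) {U : Subgroup X} (e : G ⊔ L = ⊤)
    (hU : IsSylowIn p U L) : ∃ K ≤ L ⊓ Ns U, Group.IsNilpotent K ∧ G ⊔ K = ⊤ := by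
  have := h.normal
  have h1 : Group.IsNilpotent (X ⧸ G) := by
    have h2 := isNilpotent_map (mk' G) A h.fp.nil
    have h3 : A.map (mk' G) = ⊤ := by
      rw [← comap_injective (mk'_surjective G) |>.eq_iff, comap_map_mk', h.top, comap_top]
    rw [h3] at h2
    exact Group.nilpotent_of_mulEquiv topEquiv
  have h2 := hU.map (mk' G)
  have h3 : L.map (mk' G) = ⊤ := by
    rw [← comap_injective (mk'_surjective G) |>.eq_iff, comap_map_mk', e, comap_top]
  rw [h3] at h2
  obtain ⟨P, hP⟩ := h2.exists_sylow_eq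
  have hn : (G ⊔ U).Normal := by
    rw [← comap_map_mk', ← hP, ← pCore_eq_sylow_of_isNilpotent P]
    infer_instance
  have h4 : IsSylowIn p U (L ⊓ (G ⊔ U)) := hU.mono (le_inf hU.le le_sup_right) inf_le_left
  rw [← h.top]
  refine exists_nil_suppl h.fp.nrm h.fp.nil (h.top ▸ le_top) (le_top.trans (e.ge.trans
    (sup_le le_sup_left fun x hx => ?_)))
  obtain ⟨k, hk, n, hn', rfl⟩ := h4.frattini (g := x) (inf_normalizer_le_normalizer_inf
    ⟨le_normalizer hx, by rw [normalizer_eq_top]; trivial⟩)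
  exact mul_mem (sup_le_sup_left (le_inf hU.le le_normalizer) G hk.2)
    (mem_sup_right (mem_inf.2 ⟨by simpa using mul_mem (inv_mem (mem_inf.1 hk).1) hx, hn'⟩))

theorem Min.ne_bot (h : Min G A) : A ≠ ⊥ := fun e => h.ns (by
  have h1 := h.fp.fpf
  rw [e, Cs, coe_bot, centralizer_eq_top_iff_subset.2 (by simp), inf_top_eq] at h1
  rw [h1]
  infer_instance)

theorem Min.exists_p (h : Min G A) : ∃ p : ℕ, p.Prime ∧ ∀ K : Subgroup X, Group.IsNilpotent K →
    G ⊔ K = ⊤ → pCoreOf p K ≠ ⊥ := by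
  have := h.normal
  obtain ⟨p, hp, hd, -⟩ := exists_pCoreOf_ne_bot h.fp.nil h.ne_bot
  refine ⟨p, hp, fun K hK e e1 => ?_⟩
  have := Fact.mk hp
  have h1 : ∀ B : Subgroup X, G ⊔ B = ⊤ → B.map (mk' G) = ⊤ := fun B hB => by
    rw [← comap_injective (mk'_surjective G) |>.eq_iff, comap_map_mk', hB, comap_top]
  have h2 : pp p K = K := by
    have := map_pCore_sup_map_pPrimeCore_of_isNilpotent hK p
    rwa [show (pCore p K).map K.subtype = ⊥ from e1, bot_sup_eq] at this
  have h3 : Nat.card A ∣ Nat.card K := by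
    have h4 := Subgroup.card_map_dvd K (mk' G)
    rwa [h1 K e, ← h1 A h.top, TJ.card_map_of_injOn] at h4
    rw [ker_mk', h.fp.disj]
  exact (Nat.Prime.coprime_iff_not_dvd hp).1 (coprime_card_map_pPrimeCore p K).symm
    (by rw [show (pPrimeCore p K).map K.subtype = K from h2]; exact hd.trans h3)

/-- In a minimal counterexample all nilpotent supplements are conjugate. -/
theorem Min.cj (h : Min G A) : Cj G A := by
  have := h.normal
  obtain ⟨p, hp, hK⟩ := h.exists_p
  have := Fact.mk hp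
  have nc : ∀ K : Subgroup X, K ≤ Ns (pCoreOf p K) := fun K =>
    le_normalizer.trans (normalizer_le_normalizer_map_pCore p K)
  obtain ⟨P, hP, nP⟩ : ∃ P, IsSylowIn p P ⊤ ∧ A ≤ Ns P := by
    obtain ⟨U, ⟨h1, h2, h3⟩, hm⟩ := Set.exists_max_image
      {U : Subgroup X | IsPGroup p U ∧ U ≠ ⊥ ∧ A ≤ Ns U} (fun U => Nat.card U) (Set.toFinite _)
      ⟨_, isPGroup_pCoreOf A, hK A h.fp.nil h.top, nc A⟩
    obtain ⟨U1, h4, h5⟩ := exists_isSylowIn_ge h1 le_normalizer
    obtain ⟨K, h6, h7, h8⟩ := h.step (eq_top_iff.2 (h.top.ge.trans (sup_le_sup_left h3 _))) h4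
    obtain ⟨g, -, h9⟩ := h.cj_of_le (h.Ns_ne h1 h2) (one_mem _) (by rwa [cj_one]) h7
      (h6.trans inf_le_left) h8
    have h10 := hm (Trans.cj g⁻¹ U1) ⟨isPGroup_cj h4.isPGroup _, fun e => h2 (le_bot_iff.1
      (cj_eq_bot.1 e ▸ h5)), by
        rw [← cj_Ns, ← cj_le_iff_le_cj_inv, h9]; exact h6.trans inf_le_right⟩
    rw [card_cj] at h10
    obtain rfl : U = U1 := eq_of_le_of_card_ge h5 h10
    refine ⟨U, isSylowIn_of_maximal le_top h1 fun Q hQ h11 _ => ?_, h3⟩
    by_contra hn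
    exact (lt_inf_normalizer hQ (lt_of_le_not_ge h11 hn)).ne' (h4.eq_of_le (hQ.to_le inf_le_left)
      (le_inf h11 le_normalizer) inf_le_right)
  intro K0 hK0 e0
  rw [h.top] at e0
  by_contra hcon
  obtain ⟨U, ⟨h1, h2, K, h3, h4, h5, h6⟩, hm⟩ := Set.exists_max_image
    {U : Subgroup X | IsPGroup p U ∧ U ≠ ⊥ ∧ ∃ K : Subgroup X, K ≤ Ns U ∧ Group.IsNilpotent K ∧
      G ⊔ K = ⊤ ∧ ¬ ∃ g ∈ G, Trans.cj g A = K} (fun U => Nat.card U) (Set.toFinite _)
    ⟨_, isPGroup_pCoreOf K0, hK K0 hK0 e0, K0, nc K0, hK0, e0, hcon⟩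
  obtain ⟨U1, h7, h8⟩ := exists_isSylowIn_ge h1 le_normalizer
  obtain ⟨K1, h9, h10, h11⟩ := h.step (eq_top_iff.2 (h5.ge.trans (sup_le_sup_left h3 _))) h7
  by_cases hc : ∃ g ∈ G, Trans.cj g A = K1
  · obtain ⟨g, hg, rfl⟩ := hc
    exact h6 (h.cj_of_le (h.Ns_ne h1 h2) hg (h9.trans inf_le_left) h4 h3 h5)
  obtain rfl : U = U1 := eq_of_le_of_card_ge h8 (hm U1 ⟨h7.isPGroup, fun e => h2 (le_bot_iff.1
    (e ▸ h8)), K1, h9.trans inf_le_right, h10, h11, hc⟩)
  have h12 : IsSylowIn p U ⊤ := isSylowIn_of_maximal le_top h1 fun Q hQ h11 _ => by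
    by_contra hn
    exact (lt_inf_normalizer hQ (lt_of_le_not_ge h11 hn)).ne' (h7.eq_of_le (hQ.to_le inf_le_left)
      (le_inf h11 le_normalizer) inf_le_right)
  obtain ⟨x, -, rfl⟩ := h12.exists_cj_eq hP
  obtain ⟨g, hg, a, ha, rfl⟩ := exists_mul_of_mem_sup_of_le_normalizer h.fp.nrm (h.top ▸ mem_top x)
  refine h6 (h.cj_of_le (h.Ns_ne h1 h2) hg ?_ h4 h3 h5)
  rw [cj_mul, cj_eq_of_mem_normalizer (nP ha), ← cj_Ns]
  exact cj_mono g nP

theorem Min.nonab (h : Min G A) : ¬ IsMulCommutative G := fun _ =>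
  h.ns (Group.isSolvable_of_comm fun a b => mul_comm' a b)

theorem Min.simple (h : Min G A) : IsSimpleGroup G := by
  classical
  have := h.normal
  have : Nontrivial G := by
    by_contra h1
    rw [not_nontrivial_iff_subsingleton] at h1
    exact h.ns inferInstance
  obtain ⟨M, hM⟩ := exists_isMinNormal G
  have := hM.normal
  have hMs : ¬ Group.IsSolvable M := fun hs => by
    obtain ⟨p, hp, -, -, hP⟩ := hM.elementary
    have := Fact.mk hp
    refine h.Ns_ne (isPGroup_map_pCore p G) (fun e => hM.ne_bot (le_bot_iff.1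
      ((le_pCore hM.normal hP).trans ((map_eq_bot_iff_of_injective _ G.subtype_injective).1 e).le)))
      (normalizer_eq_top_iff.2 (normal_map_subtype_of_char _))
  suffices e : M = ⊤ from ⟨fun N hN => hM.min N hN (e ▸ le_top) |>.imp_right fun e' => e'.trans e⟩
  by_contra ne
  set L := M.map G.subtype with hL
  have lt : L < G := lt_of_le_of_ne (map_subtype_le M) fun e => ne (map_injective G.subtype_injective
    (by rw [← MonoidHom.range_eq_map, range_subtype]; exact e))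
  have nL : G ≤ Ns L := (normal_subgroupOf_iff_le_normalizer lt.le).1
    (by rw [hL, subgroupOf, comap_map_eq_self_of_injective G.subtype_injective]; infer_instance)
  have dis : ∀ a ∈ A, a ∉ Ns L → Trans.cj a L ≤ Cs L := fun a ha hn => by
    have h1 : G ≤ Ns (Trans.cj a L) := by
      rw [← cj_Ns, ← cj_eq_of_normal a G]; exact cj_mono a nL
    have h2 : Trans.cj a L ≤ G := by rw [← cj_eq_of_normal a G]; exact cj_mono a lt.le
    have h3 : ((Trans.cj a L).subgroupOf G).Normal := normal_subgroupOf_of_le_normalizer' h1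
    rcases hM.inf_eq_bot_or_le ((Trans.cj a L).subgroupOf G) with e | e
    · intro x hx y hy
      obtain ⟨y, hy, rfl⟩ := hy
      exact congrArg Subtype.val (commute_of_normal_of_disjoint M _ inferInstance h3
        (disjoint_iff.2 e) y ⟨x, h2 hx⟩ hy hx)
    · exact absurd (cj_eq_self_iff.1 (eq_of_le_of_card_ge (map_le_iff_le_comap.2 e)
        (card_cj a L).le).symm) hn
  have hZ : L ⊓ Cs L = ⊥ := by
    have h1 : (M ⊓ centralizer (M : Set G)).Normal := inferInstance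
    rcases hM.min _ h1 inf_le_left with e | e
    · rw [eq_bot_iff]
      rintro _ ⟨⟨x, hx, rfl⟩, hc⟩
      have : x ∈ M ⊓ centralizer (M : Set G) :=
        ⟨hx, fun y hy => Subtype.ext (hc _ (mem_map_of_mem _ hy))⟩
      rw [e, mem_bot] at this
      simp [this]
    · exact absurd (Group.isSolvable_of_comm fun a b => Subtype.ext ((e.ge b.2).2 a a.2)) hMs
  have h1 : Fp L (A ⊓ Ns L) := ⟨inf_le_right, isNilpotent_of_le inf_le_left h.fp.nil, by
    rw [eq_bot_iff, ← hZ]
    intro x hx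
    have fx : ∀ a ∈ A, a ∈ Ns L → a * x * a⁻¹ = x := fun a ha hn =>
      mul_inv_eq_iff_eq_mul.2 (hx.2 a ⟨ha, hn⟩)
    refine ⟨hx.1, FPF.op h.fp.nrm h.fp.fpf (lt.le hx.1) (fun a ha => ?_) fun a ha h2 =>
      dis a ha (fun hn => h2 (fx a ha hn)) (conj_mem_cj.2 hx.1)⟩
    by_cases hn : a ∈ Ns L
    · rw [fx a ha hn]
    · exact (dis a ha hn (conj_mem_cj.2 hx.1) x hx.1).symm⟩
  have h2 := h.ih _ _ h1 (h.sup_ne lt inf_le_left inf_le_right)
  have e := M.equivMapOfInjective G.subtype G.subtype_injective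
  exact hMs (Group.isSolvable_of_isSolvable_injective (f := e.toMonoidHom) e.injective)

/-- Solvability follows once minimal counterexamples are excluded. -/
theorem solv_of_min (hm : ∀ (X : Type u) [Group X] [Finite X] (G A : Subgroup X), ¬ Min G A)
    (X : Type u) [Group X] [Finite X] : ∀ G A : Subgroup X, Fp G A → Group.IsSolvable G := by
  refine card_induction (P := fun X _ _ => ∀ G A : Subgroup X, Fp G A → Group.IsSolvable G)
    (fun X _ _ ih G A h => ?_) X
  have sub : ∀ H B : Subgroup X, Fp H B → H ⊔ B ≠ ⊤ → Group.IsSolvable H := fun H B hB ne => by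
    have := ih _ (card_lt_of_ne_top ne) _ _ (hB.subgroupOf le_sup_right)
    have e := subgroupOfEquivOfLe (le_sup_left : H ≤ H ⊔ B)
    exact Group.isSolvable_of_surjective (f := e.toMonoidHom) e.surjective
  by_cases ht : G ⊔ A = ⊤
  swap
  · exact sub G A h ht
  have hG : G.Normal :=
    normalizer_eq_top_iff.1 (eq_top_iff.2 (ht.ge.trans (sup_le le_normalizer h.nrm)))
  by_contra ns
  refine hm X G A ⟨h, ht, ns, sub, fun N hN ne => ?_⟩
  by_contra nle
  have key : ∀ (N : Subgroup X) [N.Normal], N ≠ ⊥ → Group.IsSolvable (G ⊓ N : Subgroup X) →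
      Fp (G.map (mk' N)) (A.map (mk' N)) → False := fun N _ ne hs hq => by
    have h1 := ih _ (card_quotient_lt ne) _ _ hq
    refine ns (Group.isSolvable_of_ker_le_range (inclusion (inf_le_left : G ⊓ N ≤ G))
      ((mk' N).subgroupMap G) fun x hx => ?_)
    exact ⟨⟨x, x.2, (eq_one_iff (x : X)).1 (congrArg Subtype.val hx)⟩, rfl⟩
  have lt : G ⊓ N < G := lt_of_le_of_ne inf_le_left fun e => nle (inf_eq_left.1 e)
  have h1 : Fp (G ⊓ N) A := h.sub inf_le_left le_normalizer_of_normal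
  have hs : Group.IsSolvable (G ⊓ N : Subgroup X) := sub _ _ h1 fun e => lt.not_ge fun g hg => by
    obtain ⟨x, hx, b, hb, rfl⟩ := exists_mul_of_mem_sup_of_le_normalizer h1.nrm (e ▸ mem_top g)
    have : b ∈ A ⊓ G := ⟨hb, by simpa using mul_mem (inv_mem (lt.le hx)) hg⟩
    rw [h.disj, mem_bot] at this
    rwa [this, mul_one]
  by_cases h0 : G ⊓ N = ⊥
  · refine key N ne hs ⟨(map_mono h.nrm).trans (le_normalizer_map _),
      isNilpotent_map _ _ h.nil, ?_⟩
    rw [eq_bot_iff]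
    rintro _ ⟨⟨g, hg, rfl⟩, hc⟩
    rw [mem_bot, h.eq_one hg fun a ha => ?_, map_one]
    have h2 : a * g * a⁻¹ * g⁻¹ ∈ G ⊓ N := mem_inf.2 ⟨mul_mem (hG.conj_mem g hg a) (inv_mem hg), by
      rw [← eq_one_iff]
      have := hc _ (mem_map_of_mem _ ha)
      simp only [mk'_apply] at this
      simp [this]⟩
    rwa [h0, mem_bot, mul_inv_eq_one, mul_inv_eq_iff_eq_mul] at h2
  · exact key (G ⊓ N) h0 (by rwa [← inf_assoc, inf_idem])
      (h.map_of_cj inf_le_left (h1.cj_of_solv hs))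

end Cfsg.Lib.NF
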